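import Cfsg.Agent.OmegaSevenThree.Split

/-!
Explicit matrices for the nilpotent skew maps of the seven-dimensional form over three elements.
-/

set_option autoImplicit false

namespace Cfsg.Agent.O73

/-- The index type of the standard form. -/
abbrev Ix : Type := Unit ⊕ (Fin 3 ⊕ Fin 3)

/-- Position of an index. -/
def pos : Ix → Fin 7
  | .inl _ => 0
  | .inr (.inl i) => ⟨1 + i.val, by omega⟩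
  | .inr (.inr i) => ⟨4 + i.val, by omega⟩

/-- Index of a position. -/
def unpos : Fin 7 → Ix := ![.inl (), .inr (.inl 0), .inr (.inl 1), .inr (.inl 2), .inr (.inr 0), .inr (.inr 1), .inr (.inr 2)]

/-- The equivalence of positions. -/
def posEquiv : Ix ≃ Fin 7 where
  toFun := pos
  invFun := unpos
  left_inv := by decide
  right_inv := by decide

/-- Polar matrix of the standard form. -/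
def Jf : Matrix Ix Ix K3 := (!![2, 0, 0, 0, 0, 0, 0; 0, 0, 0, 0, 1, 0, 0; 0, 0, 0, 0, 0, 1, 0; 0, 0, 0, 0, 0, 0, 1; 0, 1, 0, 0, 0, 0, 0; 0, 0, 1, 0, 0, 0, 0; 0, 0, 0, 1, 0, 0, 0] : Matrix (Fin 7) (Fin 7) K3).submatrix pos pos

/-- Gram matrices of the six models. -/
def gramM : Fin 6 → Matrix (Fin 7) (Fin 7) K3 :=
  ![!![0, 0, 0, 1, 0, 0, 0; 0, 0, 2, 0, 0, 0, 0; 0, 2, 0, 0, 0, 0, 0; 1, 0, 0, 0, 0, 0, 0; 0, 0, 0, 0, 1, 0, 0; 0, 0, 0, 0, 0, 1, 0; 0, 0, 0, 0, 0, 0, 1],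
    !![0, 0, 1, 0, 0, 0, 0; 0, 2, 0, 0, 0, 0, 0; 1, 0, 0, 0, 0, 0, 0; 0, 0, 0, 1, 0, 0, 0; 0, 0, 0, 0, 1, 0, 0; 0, 0, 0, 0, 0, 1, 0; 0, 0, 0, 0, 0, 0, 1],
    !![0, 0, 2, 0, 0, 0, 0; 0, 1, 0, 0, 0, 0, 0; 2, 0, 0, 0, 0, 0, 0; 0, 0, 0, 1, 0, 0, 0; 0, 0, 0, 0, 1, 0, 0; 0, 0, 0, 0, 0, 1, 0; 0, 0, 0, 0, 0, 0, 2],
    !![0, 0, 0, 0, 0, 0, 1; 0, 0, 0, 0, 0, 1, 0; 0, 0, 0, 0, 2, 0, 0; 0, 0, 0, 2, 0, 0, 0; 0, 0, 2, 0, 0, 0, 0; 0, 1, 0, 0, 0, 0, 0; 1, 0, 0, 0, 0, 0, 0],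
    !![0, 0, 0, 0, 1, 0, 0; 0, 0, 0, 0, 0, 1, 0; 0, 0, 2, 0, 0, 0, 0; 0, 0, 0, 2, 0, 0, 0; 1, 0, 0, 0, 0, 0, 0; 0, 1, 0, 0, 0, 0, 0; 0, 0, 0, 0, 0, 0, 1],
    !![0, 0, 0, 0, 1, 0, 0; 0, 0, 0, 0, 0, 2, 0; 0, 0, 2, 0, 0, 0, 0; 0, 0, 0, 1, 0, 0, 0; 1, 0, 0, 0, 0, 0, 0; 0, 2, 0, 0, 0, 0, 0; 0, 0, 0, 0, 0, 0, 2]]

/-- The six model maps. -/
def shiftM : Fin 6 → Matrix (Fin 7) (Fin 7) K3 :=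
  ![!![0, 0, 1, 0, 0, 0, 0; 0, 0, 0, 1, 0, 0, 0; 0, 0, 0, 0, 0, 0, 0; 0, 0, 0, 0, 0, 0, 0; 0, 0, 0, 0, 0, 0, 0; 0, 0, 0, 0, 0, 0, 0; 0, 0, 0, 0, 0, 0, 0],
    !![0, 1, 0, 0, 0, 0, 0; 0, 0, 1, 0, 0, 0, 0; 0, 0, 0, 0, 0, 0, 0; 0, 0, 0, 0, 0, 0, 0; 0, 0, 0, 0, 0, 0, 0; 0, 0, 0, 0, 0, 0, 0; 0, 0, 0, 0, 0, 0, 0],
    !![0, 1, 0, 0, 0, 0, 0; 0, 0, 1, 0, 0, 0, 0; 0, 0, 0, 0, 0, 0, 0; 0, 0, 0, 0, 0, 0, 0; 0, 0, 0, 0, 0, 0, 0; 0, 0, 0, 0, 0, 0, 0; 0, 0, 0, 0, 0, 0, 0],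
    !![0, 0, 0, 1, 0, 0, 0; 0, 0, 0, 0, 1, 0, 0; 0, 0, 0, 0, 0, 1, 0; 0, 0, 0, 0, 0, 0, 1; 0, 0, 0, 0, 0, 0, 0; 0, 0, 0, 0, 0, 0, 0; 0, 0, 0, 0, 0, 0, 0],
    !![0, 0, 1, 0, 0, 0, 0; 0, 0, 0, 1, 0, 0, 0; 0, 0, 0, 0, 1, 0, 0; 0, 0, 0, 0, 0, 1, 0; 0, 0, 0, 0, 0, 0, 0; 0, 0, 0, 0, 0, 0, 0; 0, 0, 0, 0, 0, 0, 0],
    !![0, 0, 1, 0, 0, 0, 0; 0, 0, 0, 1, 0, 0, 0; 0, 0, 0, 0, 1, 0, 0; 0, 0, 0, 0, 0, 1, 0; 0, 0, 0, 0, 0, 0, 0; 0, 0, 0, 0, 0, 0, 0; 0, 0, 0, 0, 0, 0, 0]]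

/-- Frames, as tables. -/
def frameT : Fin 6 → Matrix (Fin 7) (Fin 7) K3 :=
  ![!![0, 0, 0, 0, 0, 1, 1; 0, 0, 0, 0, 1, 1, 2; 0, 0, 2, 0, 0, 0, 0; 0, 0, 0, 1, 0, 0, 0; 0, 0, 0, 0, 2, 1, 2; 0, 1, 0, 0, 0, 0, 0; 1, 0, 0, 0, 0, 0, 0],
    !![0, 1, 0, 0, 0, 0, 0; 0, 0, 0, 0, 1, 1, 1; 0, 0, 0, 1, 0, 1, 2; 0, 0, 1, 0, 0, 0, 0; 0, 0, 0, 0, 2, 1, 1; 0, 0, 0, 2, 0, 1, 2; 1, 0, 0, 0, 0, 0, 0],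
    !![0, 0, 0, 0, 1, 1, 0; 0, 0, 0, 1, 0, 0, 1; 0, 1, 0, 0, 1, 2, 0; 0, 0, 2, 0, 0, 0, 0; 0, 0, 0, 2, 0, 0, 1; 0, 2, 0, 0, 1, 2, 0; 1, 0, 0, 0, 0, 0, 0],
    !![0, 0, 0, 1, 0, 0, 0; 0, 0, 0, 0, 2, 0, 0; 0, 0, 0, 0, 0, 1, 0; 0, 0, 0, 0, 0, 0, 1; 0, 0, 1, 0, 0, 0, 0; 0, 1, 0, 0, 0, 0, 0; 1, 0, 0, 0, 0, 0, 0],
    !![0, 0, 1, 0, 0, 0, 0; 0, 0, 0, 1, 0, 0, 1; 0, 0, 0, 0, 0, 1, 0; 0, 0, 0, 0, 1, 0, 0; 0, 0, 0, 1, 0, 0, 2; 0, 1, 0, 0, 0, 0, 0; 1, 0, 0, 0, 0, 0, 0],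
    !![0, 0, 1, 0, 0, 0, 0; 0, 0, 0, 1, 0, 0, 1; 0, 0, 0, 0, 0, 2, 0; 0, 0, 0, 0, 1, 0, 0; 0, 0, 0, 2, 0, 0, 1; 0, 1, 0, 0, 0, 0, 0; 1, 0, 0, 0, 0, 0, 0]]

/-- Inverse frames, as tables. -/
def coframeT : Fin 6 → Matrix (Fin 7) (Fin 7) K3 :=
  ![!![0, 0, 0, 0, 0, 0, 1; 0, 0, 0, 0, 0, 1, 0; 0, 0, 2, 0, 0, 0, 0; 0, 0, 0, 1, 0, 0, 0; 0, 2, 0, 0, 1, 0, 0; 2, 1, 0, 0, 1, 0, 0; 2, 2, 0, 0, 2, 0, 0],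
    !![0, 0, 0, 0, 0, 0, 1; 1, 0, 0, 0, 0, 0, 0; 0, 0, 0, 1, 0, 0, 0; 0, 0, 2, 0, 0, 1, 0; 0, 2, 0, 0, 1, 0, 0; 0, 1, 1, 0, 1, 1, 0; 0, 1, 2, 0, 1, 2, 0],
    !![0, 0, 0, 0, 0, 0, 1; 0, 0, 2, 0, 0, 1, 0; 0, 0, 0, 2, 0, 0, 0; 0, 2, 0, 0, 1, 0, 0; 2, 0, 1, 0, 0, 1, 0; 2, 0, 2, 0, 0, 2, 0; 0, 2, 0, 0, 2, 0, 0],
    !![0, 0, 0, 0, 0, 0, 1; 0, 0, 0, 0, 0, 1, 0; 0, 0, 0, 0, 1, 0, 0; 1, 0, 0, 0, 0, 0, 0; 0, 2, 0, 0, 0, 0, 0; 0, 0, 1, 0, 0, 0, 0; 0, 0, 0, 1, 0, 0, 0],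
    !![0, 0, 0, 0, 0, 0, 1; 0, 0, 0, 0, 0, 1, 0; 1, 0, 0, 0, 0, 0, 0; 0, 2, 0, 0, 2, 0, 0; 0, 0, 0, 1, 0, 0, 0; 0, 0, 1, 0, 0, 0, 0; 0, 2, 0, 0, 1, 0, 0],
    !![0, 0, 0, 0, 0, 0, 1; 0, 0, 0, 0, 0, 1, 0; 1, 0, 0, 0, 0, 0, 0; 0, 2, 0, 0, 1, 0, 0; 0, 0, 0, 1, 0, 0, 0; 0, 0, 2, 0, 0, 0, 0; 0, 2, 0, 0, 2, 0, 0]]

/-- Frames of the models. -/
def frameM (k : Fin 6) : Matrix Ix (Fin 7) K3 := (frameT k).submatrix pos id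

/-- Inverse frames of the models. -/
def coframeM (k : Fin 6) : Matrix (Fin 7) Ix K3 := (coframeT k).submatrix id pos

/-- The standard nilpotent maps. -/
def nilM (k : Fin 6) : Matrix Ix Ix K3 := frameM k * shiftM k * coframeM k

theorem coframe_mul_frame : ∀ k, coframeM k * frameM k = 1 := by decide +kernel

theorem frame_mul_coframe : ∀ k, frameM k * coframeM k = 1 := by decide +kernel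

theorem frame_gram : ∀ k, (frameM k).transpose * Jf * frameM k = gramM k := by decide +kernel

end Cfsg.Agent.O73
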